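import Groth.Agent.Lib.GrpdSlice13.Step
import Groth.Agent.Lib.GrpSchField.GrpdDirected
import Groth.Agent.Lib.CMMor6.BaseChange
import Groth.Agent.Lib.AlgSp.SliceLemmas
import Groth.Agent.S7510

/-!
# Shrinking a slice to where it is Cohen–Macaulay, resp. quasi-finite

The loci of `s ∘ pr₁` where it is Cohen–Macaulay, resp. quasi-finite, are preimages of opens of `U'` by
`Groth.Agent.S7510.result`.
-/

set_option autoImplicit false
set_option backward.isDefEq.respectTransparency false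

universe u

open CategoryTheory CategoryTheory.Limits AlgebraicGeometry

namespace GrothLib.GrpdSlice13

variable {S : Scheme.{u}} {G : Grpd.GroupoidScheme S} {v : G.U}

/-- Locally of finite type and Cohen–Macaulay everywhere. -/
def CMEverywhere : MorphismProperty Scheme.{u} :=
  fun _ _ f => LocallyOfFiniteType f ∧ ∀ x, MoreMor.IsCMAt f x

instance : CMEverywhere.{u}.RespectsIso := by
  refine MorphismProperty.RespectsIso.mk _ ?_ ?_
  · rintro X Y Z e f ⟨h, hc⟩
    haveI := h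
    exact ⟨inferInstance, fun x => (CMMor6.isCMAt_openImmersion_comp_iff e.hom f x).2 (hc _)⟩
  · rintro X Y Z e f ⟨h, hc⟩
    haveI := h
    exact ⟨inferInstance, fun x => CMMor6.isCMAt_comp f e.hom x (CMMor6.isLocallyNoetherian_fiber _ _) (hc x)
      (CMMor6.isCMAt_of_openImmersion _ _)⟩

theorem cm_bc {X Y X' Y' : Scheme.{u}} {f : X ⟶ Y} [LocallyOfFiniteType f] {f' : X' ⟶ Y'} {g' : X' ⟶ X}
    {g : Y' ⟶ Y} (hc : IsPullback g' f' f g) (x' : X') (h : MoreMor.IsCMAt f (g' x')) :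
    MoreMor.IsCMAt f' x' := by
  rw [CMMor6.isCMAt_iff] at h ⊢
  exact ⟨CMMor6.flat_stalkMap_baseChange hc x' h.1, (CMMor6.isCMAt_baseChange_iff_of_finiteType hc x').2 h.2⟩

theorem cm_descend {X Y X' Y' : Scheme.{u}} {f : X ⟶ Y} [LocallyOfFiniteType f] {f' : X' ⟶ Y'} {g' : X' ⟶ X}
    {g : Y' ⟶ Y} (hc : IsPullback g' f' f g) (x' : X') (hg : (g.stalkMap (f' x')).hom.Flat)
    (h : MoreMor.IsCMAt f' x') : MoreMor.IsCMAt f (g' x') := by
  rw [CMMor6.isCMAt_iff] at h ⊢
  exact ⟨CMMor6.flat_stalkMap_descend hc x' hg h.1, (CMMor6.isCMAt_baseChange_iff_of_finiteType hc x').1 h.2⟩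

namespace Cand

variable (C : Cand G v)

theorem exists_shrink [LocallyOfFinitePresentation G.s] (V : C.U'.Opens) (hV : C.u' ∈ V) :
    ∃ (C' : Cand G v) (m : pullback C'.g G.t ⟶ pullback C.g G.t), IsOpenImmersion m ∧ m ≫ C.h = C'.h ∧
      m C'.p = C.p ∧ ∀ z, pullback.fst C.g G.t (m z) ∈ V := by
  obtain ⟨W, hW, huW, hWV⟩ := exists_isAffineOpen_mem_and_subset (U := V) hV
  haveI : IsAffine (W : Scheme.{u}) := hW
  haveI : IsImmersion (W.ι ≫ C.g) := inferInstance
  haveI : LocallyOfFinitePresentation (W.ι ≫ C.g) := inferInstance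
  let m : pullback (W.ι ≫ C.g) G.t ⟶ pullback C.g G.t :=
    pullback.lift (pullback.fst (W.ι ≫ C.g) G.t ≫ W.ι) (pullback.snd (W.ι ≫ C.g) G.t)
      ((Category.assoc _ _ _).trans pullback.condition)
  have hm₁ : m ≫ pullback.fst C.g G.t = pullback.fst (W.ι ≫ C.g) G.t ≫ W.ι := pullback.lift_fst _ _ _
  have hm₂ : m ≫ pullback.snd C.g G.t = pullback.snd (W.ι ≫ C.g) G.t := pullback.lift_snd _ _ _
  have sq : IsPullback m (pullback.fst (W.ι ≫ C.g) G.t) (pullback.fst C.g G.t) W.ι :=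
    IsPullback.of_right (by rw [hm₂]; exact (IsPullback.of_hasPullback (W.ι ≫ C.g) G.t).flip) hm₁
      (IsPullback.of_hasPullback C.g G.t).flip
  haveI : IsOpenImmersion m := MorphismProperty.of_isPullback (P := @IsOpenImmersion) sq.flip inferInstance
  have hmh : m ≫ C.h = pullback.snd (W.ι ≫ C.g) G.t ≫ G.s := by rw [← Category.assoc, hm₂]
  obtain ⟨p, hp₁, hp₂⟩ := Scheme.Pullback.exists_preimage_pullback (f := W.ι ≫ C.g) (g := G.t) (⟨C.u', huW⟩ : W)
    (G.e v) (by
      rw [← Scheme.Hom.comp_apply G.e, G.e_t]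
      exact C.hu)
  have hmp : m p = C.p := by
    apply (pullback.snd C.g G.t).isEmbedding.injective
    rw [← Scheme.Hom.comp_apply, hm₂, hp₂, C.hp₂]
  have hcm : MoreMor.IsCMAt (pullback.snd (W.ι ≫ C.g) G.t ≫ G.s) p :=
    hmh ▸ (CMMor6.isCMAt_openImmersion_comp_iff m C.h p).2 (hmp ▸ C.cm)
  refine ⟨{ U' := _, g := W.ι ≫ C.g, u' := ⟨C.u', huW⟩, p := p, aff := hW, imm := inferInstance
            lfp := inferInstance, hu := C.hu, hp₁ := hp₁, hp₂ := hp₂, cm := hcm }, m, inferInstance, hmh, hmp, ?_⟩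
  intro z
  rw [← Scheme.Hom.comp_apply, hm₁, Scheme.Hom.comp_apply]
  exact hWV (pullback.fst (W.ι ≫ C.g) G.t z).2

theorem exists_cm [LocallyOfFinitePresentation G.s] [LocallyOfFinitePresentation G.t]
    (hs : ∀ r : G.R, Grpd.IsCMAt G.s r) (ht : ∀ r : G.R, Grpd.IsCMAt G.t r) :
    ∃ C' : Cand G v, (∀ z, MoreMor.IsCMAt C'.h z) ∧
      FlatMor.fibreDimAt C'.h C'.p = FlatMor.fibreDimAt C.h C.p := by
  let Q : MorphismProperty Scheme.{u} := @LocallyOfFinitePresentation
  let R : MorphismProperty Scheme.{u} := fun _ _ f => LocallyOfFinitePresentation f ∧ ∀ x, MoreMor.IsCMAt f x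
  let W : ∀ {X Y : Scheme.{u}} (f : X ⟶ Y), Q f → X.Opens := fun f hf =>
    ⟨{x | MoreMor.IsCMAt f x}, @CMMor6.isOpen_cmLocus _ _ f hf⟩
  obtain ⟨V, hV⟩ := Groth.Agent.S7510.result S G C.g CMEverywhere Q R (fun _ _ _ h => h.1) @W
    (fun f hf => by
      haveI : LocallyOfFinitePresentation f := hf
      exact ⟨inferInstance, fun x => (CMMor6.isCMAt_openImmersion_comp_iff _ f x).2 x.2⟩)
    (fun f hf V hV x hx => by
      haveI : LocallyOfFinitePresentation f := hf
      exact (CMMor6.isCMAt_openImmersion_comp_iff V.ι f ⟨x, hx⟩).1 (hV.2 _))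
    (fun f hf b hb hf' => by
      haveI : LocallyOfFinitePresentation f := hf
      refine TopologicalSpace.Opens.ext (Set.ext fun x => ⟨fun h => cm_bc (IsPullback.of_hasPullback f b) x h,
        fun h => cm_descend (IsPullback.of_hasPullback f b) x (hb.2 _).1 h⟩))
    ⟨inferInstance, fun x => (grpd_iff _ _).1 (hs x)⟩ ⟨inferInstance, fun x => (grpd_iff _ _).1 (ht x)⟩
    C.lfp C.lfp_h
  have hu : C.u' ∈ V := by
    have : C.p ∈ pullback.fst C.g G.t ⁻¹ᵁ V := hV ▸ C.cm
    exact C.hp₁ ▸ this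
  obtain ⟨C', m, hm, hmh, hmp, hmV⟩ := C.exists_shrink V hu
  haveI := hm
  refine ⟨C', fun z => ?_, ?_⟩
  · rw [← hmh]
    refine (CMMor6.isCMAt_openImmersion_comp_iff m C.h z).2 ?_
    exact hV.le (hmV z)
  · rw [← hmh, CMMor6.fibreDimAt_comp_flat_lqf, hmp]

theorem exists_lqf [LocallyOfFinitePresentation G.s] [LocallyOfFinitePresentation G.t]
    (hcm : ∀ z, MoreMor.IsCMAt C.h z) (hd : FlatMor.fibreDimAt C.h C.p ≤ 0) :
    ∃ C' : Cand G v, (∀ z, MoreMor.IsCMAt C'.h z) ∧ LocallyQuasiFinite C'.h := by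
  let Q : MorphismProperty Scheme.{u} := @LocallyOfFiniteType
  let P : MorphismProperty Scheme.{u} := @LocallyQuasiFinite ⊓ @LocallyOfFiniteType
  let W : ∀ {X Y : Scheme.{u}} (f : X ⟶ Y), Q f → X.Opens := fun f hf => @Scheme.Hom.quasiFiniteLocus _ _ f hf
  obtain ⟨V, hV⟩ := Groth.Agent.S7510.result S G C.g P Q Q le_rfl @W
    (fun f hf => by
      haveI : LocallyOfFiniteType f := hf
      refine ⟨?_, inferInstanceAs (LocallyOfFiniteType (_ ≫ f))⟩
      rw [← Scheme.Hom.quasiFiniteLocus_eq_top_iff, Scheme.Hom.quasiFiniteLocus_comp]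
      exact (f.quasiFiniteLocus).ι_preimage_self)
    (fun f hf V hV x hx => by
      haveI : LocallyOfFiniteType f := hf
      obtain ⟨h₁, h₂⟩ := hV
      haveI := h₁
      haveI := h₂
      have e := Scheme.Hom.quasiFiniteLocus_eq_top (V.ι ≫ f)
      rw [Scheme.Hom.quasiFiniteLocus_comp] at e
      exact e.ge (show (⟨x, hx⟩ : V) ∈ (⊤ : (V : Scheme.{u}).Opens) from trivial))
    (fun f hf b _ hf' => by
      haveI : LocallyOfFiniteType f := hf
      refine TopologicalSpace.Opens.ext (Set.ext fun x =>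
        ⟨fun h => AlgSp.qfAt_bc (IsPullback.of_hasPullback f b) x h,
          fun h => AlgSp.qfAt_descend (IsPullback.of_hasPullback f b) x h⟩))
    (inferInstanceAs (LocallyOfFiniteType G.s)) (inferInstanceAs (LocallyOfFiniteType G.t))
    (inferInstanceAs (LocallyOfFiniteType C.g)) (inferInstanceAs (LocallyOfFiniteType C.h))
  have hu : C.u' ∈ V := by
    have : C.p ∈ pullback.fst C.g G.t ⁻¹ᵁ V := hV ▸ (AlgSp.quasiFiniteAt_iff_fibreDimAt C.h C.p).2 hd
    exact C.hp₁ ▸ this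
  obtain ⟨C', m, hm, hmh, hmp, hmV⟩ := C.exists_shrink V hu
  haveI := hm
  refine ⟨C', fun z => ?_, ?_⟩
  · rw [← hmh]
    exact (CMMor6.isCMAt_openImmersion_comp_iff m C.h z).2 (hcm _)
  · rw [← hmh, ← Scheme.Hom.quasiFiniteLocus_eq_top_iff, Scheme.Hom.quasiFiniteLocus_comp]
    exact top_le_iff.1 fun z _ => hV.le (hmV z)

/-- The inverse exchanges source and target of the restricted groupoid. -/
theorem exists_swap :
    ∃ σ : pullback C.h C.g ⟶ pullback C.h C.g, IsIso σ ∧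
      σ ≫ pullback.snd C.h C.g = pullback.fst C.h C.g ≫ pullback.fst C.g G.t := by
  let a := pullback.fst C.h C.g
  have h₁ : pullback.snd C.h C.g ≫ C.g = (a ≫ pullback.snd C.g G.t ≫ G.i) ≫ G.t := by
    simp only [a, Category.assoc, G.i_t]
    exact pullback.condition.symm
  have h₂ : pullback.lift (pullback.snd C.h C.g) (a ≫ pullback.snd C.g G.t ≫ G.i) h₁ ≫ C.h =
      (a ≫ pullback.fst C.g G.t) ≫ C.g := by
    rw [pullback.lift_snd_assoc, Category.assoc, Category.assoc, Category.assoc, G.i_s, pullback.condition]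
  let σ := pullback.lift (pullback.lift (pullback.snd C.h C.g) (a ≫ pullback.snd C.g G.t ≫ G.i) h₁)
    (a ≫ pullback.fst C.g G.t) h₂
  have e₁ : σ ≫ pullback.fst C.h C.g = pullback.lift (pullback.snd C.h C.g) (a ≫ pullback.snd C.g G.t ≫ G.i) h₁ :=
    pullback.lift_fst _ _ _
  have e₂ : σ ≫ pullback.snd C.h C.g = a ≫ pullback.fst C.g G.t := pullback.lift_snd _ _ _
  have e : σ ≫ σ = 𝟙 _ := by
    apply pullback.hom_ext
    · rw [Category.assoc, e₁, Category.id_comp]
      apply pullback.hom_ext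
      · rw [Category.assoc, pullback.lift_fst, e₂]
      · rw [Category.assoc, pullback.lift_snd, reassoc_of% e₁, pullback.lift_snd_assoc, Category.assoc,
          Category.assoc, GrpSchField.i_i, Category.comp_id]
    · rw [Category.assoc, e₂, Category.id_comp]
      simp only [a]
      rw [reassoc_of% e₁, pullback.lift_fst]
  exact ⟨σ, ⟨σ, e, e⟩, e₂⟩

theorem cm_source_target [LocallyOfFinitePresentation G.s] (hcm : ∀ z, MoreMor.IsCMAt C.h z) :
    ((∀ q, MoreMor.IsCMAt (pullback.snd C.h C.g) q) ∧ LocallyOfFinitePresentation (pullback.snd C.h C.g)) ∧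
    (∀ q, MoreMor.IsCMAt (pullback.fst C.h C.g ≫ pullback.fst C.g G.t) q) ∧
      LocallyOfFinitePresentation (pullback.fst C.h C.g ≫ pullback.fst C.g G.t) := by
  obtain ⟨σ, hσ, e⟩ := C.exists_swap
  haveI := hσ
  haveI : LocallyOfFinitePresentation (pullback.snd C.h C.g) := MorphismProperty.pullback_snd _ _ C.lfp_h
  have h₁ : ∀ q, MoreMor.IsCMAt (pullback.snd C.h C.g) q := fun q => cm_bc (IsPullback.of_hasPullback C.h C.g) q (hcm _)
  refine ⟨⟨h₁, inferInstance⟩, fun q => ?_, ?_⟩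
  · rw [← e]
    exact (CMMor6.isCMAt_openImmersion_comp_iff σ _ q).2 (h₁ _)
  · rw [← e]
    infer_instance

theorem lqf_source_target [LocallyOfFinitePresentation G.s] [LocallyQuasiFinite C.h] :
    LocallyQuasiFinite (pullback.snd C.h C.g) ∧
      LocallyQuasiFinite (pullback.fst C.h C.g ≫ pullback.fst C.g G.t) := by
  obtain ⟨σ, hσ, e⟩ := C.exists_swap
  haveI := hσ
  haveI h : LocallyQuasiFinite (pullback.snd C.h C.g) := MorphismProperty.pullback_snd _ _ ‹_›
  exact ⟨h, e ▸ inferInstanceAs (LocallyQuasiFinite (σ ≫ pullback.snd C.h C.g))⟩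

end Cand

theorem flat_of_cm {X Y : Scheme.{u}} {f : X ⟶ Y} (h : ∀ x, MoreMor.IsCMAt f x) : Flat f :=
  Flat.iff_flat_stalkMap f |>.2 fun x => (h x).1

end GrothLib.GrpdSlice13
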