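import Groth.Agent.Lib.QSecGen13.FlatCutFP
import Groth.Agent.Lib.SyntLoc.Field
import Groth.Agent.Lib.CMMor6.Chart
import Groth.Agent.Lib.AffDom.FibreDim
import Groth.Prelude.Def_Grpd

/-!
# Cutting a Cohen–Macaulay morphism by one equation
-/

set_option autoImplicit false
set_option backward.isDefEq.respectTransparency false

universe u

open CategoryTheory CategoryTheory.Limits AlgebraicGeometry IsLocalRing RingTheory.Sequence

namespace GrothLib.GrpdSlice13

open GrothLib.CMMor6 (FibQuot)

theorem grpd_iff {X S : Scheme.{u}} (f : X ⟶ S) (x : X) : Grpd.IsCMAt f x ↔ MoreMor.IsCMAt f x :=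
  (CMMor6.isCMAt_iff f x).symm

/-- Cutting by an element regular on the fibre preserves being Cohen–Macaulay and lowers the dimension. -/
theorem cut_at {P P' X : Scheme.{u}} (m : P' ⟶ P) [IsClosedImmersion m] (h : P ⟶ X)
    [LocallyOfFinitePresentation h] (z : P') (hCM : MoreMor.IsCMAt h (m z)) (f : P.presheaf.stalk (m z))
    (hker : RingHom.ker (m.stalkMap z).hom = Ideal.span {f})
    (hf : Ideal.Quotient.mk _ f ∈ nonZeroDivisors (FibQuot h (m z))) :
    MoreMor.IsCMAt (m ≫ h) z ∧
      ringKrullDim (FibQuot (m ≫ h) z) + 1 = ringKrullDim (FibQuot h (m z)) := by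
  rw [CMMor6.isCMAt_iff] at hCM ⊢
  obtain ⟨hfl, hCM⟩ := hCM
  let A := X.presheaf.stalk (h (m z))
  let B := P.presheaf.stalk (m z)
  letI : Algebra A B := (h.stalkMap (m z)).hom.toAlgebra
  haveI : IsLocalHom (algebraMap A B) := inferInstanceAs (IsLocalHom (h.stalkMap (m z)).hom)
  haveI : Module.Flat A B := hfl
  haveI := CMMor6.isLocallyNoetherian_fiber h (h (m z))
  let mB := (maximalIdeal A).map (algebraMap A B)
  let F := B ⧸ mB
  haveI : IsNoetherianRing F := CMMor6.isNoetherianRing_fibQuot h (m z)
  haveI : IsLocalRing F := hCM.toIsLocalRing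
  have hfm : f ∈ maximalIdeal B := le_maximalIdeal (RingHom.ker_ne_top (m.stalkMap z).hom)
    (hker.ge (Ideal.mem_span_singleton_self f))
  let fb : F := Ideal.Quotient.mk mB f
  have hfb : fb ∈ maximalIdeal F := by
    rw [← IsLocalRing.map_maximalIdeal_of_surjective (Ideal.Quotient.mk mB) Ideal.Quotient.mk_surjective]
    exact Ideal.mem_map_of_mem _ hfm
  have hw : IsWeaklyRegular F [fb] := by
    refine (isWeaklyRegular_singleton_iff _ _).2 ?_
    rw [isSMulRegular_iff_right_eq_zero_of_smul]
    intro a ha
    rw [smul_eq_mul] at ha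
    exact (mem_nonZeroDivisors_iff.mp hf).1 _ ha
  have hmem : ∀ r ∈ [fb], r ∈ maximalIdeal F := by simpa using hfb
  have hr : IsRegular F [fb] := (IsLocalRing.isRegular_iff_isWeaklyRegular_of_subset_maximalIdeal hmem).2 hw
  have hks : Function.Surjective (m.stalkMap z).hom := SurjectiveOnStalks.stalkMap_surjective m z
  have hcomp : (m ≫ h).stalkMap z = h.stalkMap (m z) ≫ m.stalkMap z := Scheme.Hom.stalkMap_comp m h z
  let φ : F →+* FibQuot (m ≫ h) z := Ideal.quotientMap _ (m.stalkMap z).hom (by
    refine Ideal.map_le_iff_le_comap.2 fun a ha => ?_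
    show (m.stalkMap z).hom (algebraMap A B a) ∈ Ideal.map _ _
    have := Ideal.mem_map_of_mem ((m ≫ h).stalkMap z).hom ha
    rw [hcomp] at this ⊢
    exact this)
  have hφ : Function.Surjective φ := Ideal.quotientMap_surjective hks
  have hφm : ∀ c : B, φ (Ideal.Quotient.mk mB c) = Ideal.Quotient.mk _ ((m.stalkMap z).hom c) := fun c => rfl
  have hkφ : RingHom.ker φ = Ideal.span {fb} := by
    refine le_antisymm (fun a ha => ?_) ?_
    · obtain ⟨b, rfl⟩ := Ideal.Quotient.mk_surjective a
      rw [RingHom.mem_ker] at ha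
      rw [hφm] at ha
      rw [Ideal.Quotient.eq_zero_iff_mem, hcomp, CommRingCat.hom_comp, ← Ideal.map_map] at ha
      have hb : b ∈ mB ⊔ RingHom.ker (m.stalkMap z).hom := by
        have h2 := Ideal.comap_map_of_surjective _ hks mB
        rw [← RingHom.ker_eq_comap_bot] at h2
        exact h2.le ha
      rw [hker] at hb
      obtain ⟨p, hp, q, hq, rfl⟩ := Submodule.mem_sup.1 hb
      rw [map_add, Ideal.Quotient.eq_zero_iff_mem.2 hp, zero_add]
      obtain ⟨c, rfl⟩ := Ideal.mem_span_singleton'.1 hq
      rw [map_mul]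
      exact Ideal.mul_mem_left _ _ (Ideal.mem_span_singleton_self fb)
    · rw [Ideal.span_le, Set.singleton_subset_iff, SetLike.mem_coe, RingHom.mem_ker]
      rw [hφm]
      rw [RingHom.mem_ker.1 (hker.ge (Ideal.mem_span_singleton_self f)), map_zero]
  let e : F ⧸ Ideal.ofList [fb] ≃+* FibQuot (m ≫ h) z :=
    (Ideal.quotEquivOfEq (by rw [hkφ, Ideal.ofList_singleton])).trans (RingHom.quotientKerEquivOfSurjective hφ)
  refine ⟨?_, ?_⟩
  · refine ⟨?_, ?_⟩
    · -- flatness by the fibrewise criterion
      have hreg : IsRegular (B ⧸ mB) ((List.ofFn fun _ : Fin 1 => f).map (Ideal.Quotient.mk mB)) := by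
        simpa using hr
      have hq := FibreFlat.flat_quotient_of_flat_aeval
        (FibreFlat.flat_aeval_of_fibre_regular (FibreFlat.isEssFinitePresentation_stalkMap h (m z))
          (fun _ : Fin 1 => f) hreg)
      have hI : Ideal.ofList (List.ofFn fun _ : Fin 1 => f) = RingHom.ker (m.stalkMap z).hom := by
        rw [hker]; simp [Ideal.ofList_singleton]
      let e' := (Ideal.quotEquivOfEq hI).trans (RingHom.quotientKerEquivOfSurjective hks)
      rw [hcomp, CommRingCat.hom_comp]
      have heq : (m.stalkMap z).hom.comp (algebraMap A B) =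
          e'.toRingHom.comp ((Ideal.Quotient.mk _).comp (algebraMap A B)) :=
        RingHom.ext fun a => by simp [e']
      show ((m.stalkMap z).hom.comp (algebraMap A B)).Flat
      rw [heq]
      exact hq.comp (RingHom.Flat.of_bijective e'.bijective)
    · haveI := hCM
      haveI := SyntLoc.isCohenMacaulayLocalRing_quotient_ofList [fb] hmem hw
      exact HB26.isCohenMacaulayLocalRing_of_ringEquiv e
  · have hd := ringKrullDim_add_length_eq_ringKrullDim_of_isRegular [fb] hr
    rw [ringKrullDim_eq_of_ringEquiv e, List.length_singleton, Nat.cast_one] at hd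
    exact hd

/-- A rational point of a fibre is closed in it. -/
theorem isClosed_asFiber_of_section {R U : Scheme.{u}} (q : R ⟶ U) [LocallyOfFiniteType q] (e : U ⟶ R)
    (he : e ≫ q = 𝟙 U) (v : U) (r : q.fiber v) (hr : q.fiberι v r = e v) :
    IsClosed ({r} : Set (q.fiber v)) := by
  let pr := q.fiberToSpecResidueField v
  haveI : LocallyOfFiniteType pr := MorphismProperty.pullback_snd q _ ‹_›
  haveI : JacobsonSpace (q.fiber v) := LocallyOfFiniteType.jacobsonSpace pr
  let σ : Spec (U.residueField v) ⟶ q.fiber v := pullback.lift (U.fromSpecResidueField v ≫ e) (𝟙 _)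
    (by rw [Category.assoc, he, Category.comp_id, Category.id_comp])
  haveI : LocallyOfFiniteType (σ ≫ pr) := by
    rw [show σ ≫ pr = 𝟙 _ from pullback.lift_snd _ _ _]; infer_instance
  haveI : LocallyOfFiniteType σ := locallyOfFiniteType_of_comp σ pr
  have hc : closedPoint (U.residueField v) ∈ closedPoints (Spec (U.residueField v)) :=
    isClosed_singleton_closedPoint _
  have := σ.closePoints_subset_preimage_closedPoints hc
  have hσ : σ (closedPoint (U.residueField v)) = r := by
    apply (q.fiberι v).isEmbedding.injective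
    rw [hr, ← Scheme.Hom.comp_apply, show σ ≫ q.fiberι v = U.fromSpecResidueField v ≫ e from pullback.lift_fst _ _ _,
      Scheme.Hom.comp_apply]
    exact congrArg e (Scheme.fromSpecResidueField_apply v _)
  exact hσ ▸ this

/-- The fibre dimension at a point closed in its fibre is the dimension of the local ring of the fibre. -/
theorem fibreDimAt_eq_of_closed {X Y : Scheme.{u}} (f : X ⟶ Y) [LocallyOfFiniteType f] (x : X)
    (hx : IsClosed ({f.asFiber x} : Set (f.fiber (f x)))) :
    FlatMor.fibreDimAt f x = ringKrullDim (FibQuot f x) := by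
  haveI : LocallyOfFiniteType (f.fiberToSpecResidueField (f x)) :=
    MorphismProperty.pullback_snd f _ inferInstance
  obtain ⟨e⟩ := CMMor6.nonempty_fibQuot_equiv f x
  rw [ringKrullDim_eq_of_ringEquiv e]
  refine (AffDom.localDim_eq (K := Y.residueField (f x)) (f.fiberToSpecResidueField (f x)) (f.asFiber x)).trans ?_
  rw [AffDom.ptDim_closedPoint hx, zero_add]

end GrothLib.GrpdSlice13
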