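import Groth.Agent.Lib.GrpdQuot.RestrictMono
import Groth.Agent.Lib.GrpSchField.GrpdStabDim
import Groth.Agent.Lib.CMMor6.Chart
import Groth.Agent.Lib.AlgSp.FibreDimZero

/-!
# The arrows from a finite type point to itself

For a finite type point `u` of the objects of a groupoid scheme, the set `loopSet G u` of arrows with
source and target `u` has the dimension of the stabilizer at `u`, and is equidimensional at `e u`.
-/

set_option autoImplicit false
set_option backward.isDefEq.respectTransparency false

universe u

open CategoryTheory CategoryTheory.Limits AlgebraicGeometry TopologicalSpace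

namespace GrothLib.GrpdSlice13

variable {S : Scheme.{u}} (G : Grpd.GroupoidScheme S) (v : G.U)

/-- The arrows from `v` to `v`. -/
def loopSet : Set G.R := {r | G.t r = v ∧ G.s r = v}

theorem j_fst (G : Grpd.GroupoidScheme S) : G.j ≫ pullback.fst G.pU G.pU = G.t := pullback.lift_fst _ _ _

theorem j_snd (G : Grpd.GroupoidScheme S) : G.j ≫ pullback.snd G.pU G.pU = G.s := pullback.lift_snd _ _ _

theorem diag_fst (G : Grpd.GroupoidScheme S) : G.diag ≫ pullback.fst G.pU G.pU = 𝟙 G.U := pullback.lift_fst _ _ _

theorem diag_snd (G : Grpd.GroupoidScheme S) : G.diag ≫ pullback.snd G.pU G.pU = 𝟙 G.U := pullback.lift_snd _ _ _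

/-- The restriction of the groupoid to a point. -/
noncomputable abbrev ptGrpd : Grpd.GroupoidScheme S :=
  GrpdQuot.restrictMono G (G.U.fromSpecResidueField v)

theorem range_arrInι : Set.range (GrpdQuot.arrInι G (G.U.fromSpecResidueField v)) = loopSet G v := by
  let k := G.U.fromSpecResidueField v
  have hk : ∀ w, k w = v := fun w => by simp [k]
  apply Set.Subset.antisymm
  · rintro _ ⟨w, rfl⟩
    constructor
    · rw [← Scheme.Hom.comp_apply, GrpdQuot.arrInι_t, Scheme.Hom.comp_apply, hk]
    · rw [← Scheme.Hom.comp_apply, GrpdQuot.arrInι_s, Scheme.Hom.comp_apply, hk]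
  · rintro r ⟨ht, hs⟩
    obtain ⟨pt, hpt⟩ : ∃ pt, k pt = v := ⟨IsLocalRing.closedPoint _, hk _⟩
    obtain ⟨a, ha, -⟩ := Scheme.Pullback.exists_preimage_pullback (f := G.t) (g := k) r pt (ht.trans hpt.symm)
    obtain ⟨b, hb, -⟩ := Scheme.Pullback.exists_preimage_pullback (f := GrpdQuot.arrToS G k) (g := k) a pt
      (by rw [GrpdQuot.arrToS, Scheme.Hom.comp_apply, ha, hs, hpt])
    refine ⟨b, ?_⟩
    show (pullback.fst (GrpdQuot.arrToS G k) k ≫ pullback.fst G.t k) b = r
    rw [Scheme.Hom.comp_apply, hb, ha]

theorem isEmbedding_arrInι :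
    Topology.IsEmbedding (GrpdQuot.arrInι G (G.U.fromSpecResidueField v)) := by
  let k := G.U.fromSpecResidueField v
  haveI : IsPreimmersion (pullback.fst (GrpdQuot.arrToS G k) k) := MorphismProperty.pullback_fst _ _ inferInstance
  haveI : IsPreimmersion (pullback.fst G.t k) := MorphismProperty.pullback_fst _ _ inferInstance
  exact (pullback.fst (GrpdQuot.arrToS G k) k ≫ pullback.fst G.t k).isEmbedding

theorem lft_ptGrpd [LocallyOfFiniteType G.s] [LocallyOfFiniteType G.t]
    (hv : LocallyOfFiniteType (G.U.fromSpecResidueField v)) :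
    LocallyOfFiniteType (ptGrpd G v).s ∧ LocallyOfFiniteType (ptGrpd G v).t := by
  let k := G.U.fromSpecResidueField v
  haveI : LocallyOfFiniteType k := hv
  haveI : LocallyOfFiniteType (pullback.fst G.t k) := MorphismProperty.pullback_fst _ _ hv
  haveI : LocallyOfFiniteType (pullback.snd G.t k) := MorphismProperty.pullback_snd _ _ ‹_›
  haveI : LocallyOfFiniteType (GrpdQuot.arrToS G k) := by
    unfold GrpdQuot.arrToS; infer_instance
  haveI : LocallyOfFiniteType (pullback.fst (GrpdQuot.arrToS G k) k) := MorphismProperty.pullback_fst _ _ hv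
  exact ⟨MorphismProperty.pullback_snd (GrpdQuot.arrToS G k) k ‹_›,
    MorphismProperty.comp_mem @LocallyOfFiniteType _ _ ‹LocallyOfFiniteType (pullback.fst (GrpdQuot.arrToS G k) k)›
      ‹LocallyOfFiniteType (pullback.snd G.t k)›⟩

theorem topologicalKrullDim_stabilizer_fiber :
    topologicalKrullDim ↥(G.stabilizerToU.fiber v) = topologicalKrullDim (ptGrpd G v).stabilizer := by
  let k := G.U.fromSpecResidueField v
  let G' := ptGrpd G v
  haveI : IsImmersion G.diag := by rw [show G.diag = pullback.diagonal G.pU from rfl]; infer_instance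
  have hA : Topology.IsEmbedding (G.stabilizerToU.fiberι v ≫ pullback.fst G.j G.diag : G.stabilizerToU.fiber v ⟶ G.R) :=
    (pullback.fst G.j G.diag).isEmbedding.comp (G.stabilizerToU.fiberι v).isEmbedding
  have hB : Topology.IsEmbedding (pullback.fst G'.j G'.diag ≫ GrpdQuot.arrInι G k : G'.stabilizer ⟶ G.R) :=
    (isEmbedding_arrInι G v).comp ⟨GrpSchField.isInducing_stabilizer_fst G', (by
      haveI : IsImmersion G'.diag := by rw [show G'.diag = pullback.diagonal G'.pU from rfl]; infer_instance
      exact (pullback.fst G'.j G'.diag).isEmbedding.injective)⟩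
  -- the conditions defining the two stabilizers
  have hc' := (pullback.condition : pullback.fst G'.j G'.diag ≫ G'.j = pullback.snd G'.j G'.diag ≫ G'.diag)
  have hT' : pullback.fst G'.j G'.diag ≫ GrpdQuot.arrInT G k = pullback.snd G'.j G'.diag := by
    have := congrArg (· ≫ pullback.fst G'.pU G'.pU) hc'
    simp only [Category.assoc, j_fst, diag_fst] at this
    exact this.trans (Category.comp_id _)
  have hS' : pullback.fst G'.j G'.diag ≫ GrpdQuot.arrInS G k = pullback.snd G'.j G'.diag := by
    have := congrArg (· ≫ pullback.snd G'.pU G'.pU) hc'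
    simp only [Category.assoc, j_snd, diag_snd] at this
    exact this.trans (Category.comp_id _)
  let a : G'.stabilizer ⟶ G.stabilizerToU.fiber v :=
    pullback.lift (pullback.lift (pullback.fst G'.j G'.diag ≫ GrpdQuot.arrInι G k) (pullback.snd G'.j G'.diag ≫ k)
      (by
        apply pullback.hom_ext
        · simp only [Category.assoc, j_fst, diag_fst, Category.comp_id]
          rw [GrpdQuot.arrInι_t]
          exact (Category.assoc _ _ _).symm.trans (congrArg (· ≫ k) hT')
        · simp only [Category.assoc, j_snd, diag_snd, Category.comp_id]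
          rw [GrpdQuot.arrInι_s]
          exact (Category.assoc _ _ _).symm.trans (congrArg (· ≫ k) hS')))
      (pullback.snd G'.j G'.diag) (pullback.lift_snd _ _ _)
  let f₁ := G.stabilizerToU.fiberι v ≫ pullback.fst G.j G.diag
  let q := G.stabilizerToU.fiberToSpecResidueField v
  have hc : (G.stabilizerToU.fiberι v ≫ pullback.fst G.j G.diag) ≫ G.j = q ≫ k ≫ G.diag := by
    rw [Category.assoc, pullback.condition, ← Category.assoc, ← Category.assoc]
    congr 1
    exact pullback.condition
  have ht : f₁ ≫ G.t = q ≫ k := by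
    have := congrArg (· ≫ pullback.fst G.pU G.pU) hc
    simp only [Category.assoc, j_fst, j_snd, diag_fst, diag_snd, Category.comp_id] at this
    simpa only [f₁, Category.assoc] using this
  have hs : f₁ ≫ G.s = q ≫ k := by
    have := congrArg (· ≫ pullback.snd G.pU G.pU) hc
    simp only [Category.assoc, j_fst, j_snd, diag_fst, diag_snd, Category.comp_id] at this
    simpa only [f₁, Category.assoc] using this
  let b : G.stabilizerToU.fiber v ⟶ G'.stabilizer :=
    pullback.lift (GrpdQuot.arrInMk G k f₁ q q ht hs) q (by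
      apply pullback.hom_ext
      · simp only [Category.assoc, j_fst, diag_fst]
        refine Eq.trans ?_ (Category.comp_id _).symm
        exact GrpdQuot.arrInMk_t G k f₁ q q ht hs
      · simp only [Category.assoc, j_snd, diag_snd]
        refine Eq.trans ?_ (Category.comp_id _).symm
        exact GrpdQuot.arrInMk_s G k f₁ q q ht hs)
  have ha : a ≫ f₁ = pullback.fst G'.j G'.diag ≫ GrpdQuot.arrInι G k := by
    simp only [a, f₁]
    exact (pullback.lift_fst_assoc _ _ _ _).trans (pullback.lift_fst _ _ _)
  have hb : b ≫ pullback.fst G'.j G'.diag ≫ GrpdQuot.arrInι G k = f₁ :=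
    (pullback.lift_fst_assoc _ _ _ _).trans (GrpdQuot.arrInMk_ι G k f₁ q q ht hs)
  refine le_antisymm ?_ ?_
  · refine Topology.IsInducing.topologicalKrullDim_le (f := b) ?_
    refine Topology.IsInducing.of_comp b.continuous
      (pullback.fst G'.j G'.diag ≫ GrpdQuot.arrInι G k).continuous ?_
    have h : Topology.IsInducing f₁ := hA.isInducing
    rw [← hb] at h
    exact h
  · refine Topology.IsInducing.topologicalKrullDim_le (f := a) ?_
    refine Topology.IsInducing.of_comp a.continuous f₁.continuous ?_
    have := hB.isInducing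
    rw [← ha] at this
    exact this

/-- The loops at a finite type point form a space of the dimension of the stabilizer, everywhere. -/
theorem localDim_ptGrpd [LocallyOfFiniteType G.s] [LocallyOfFiniteType G.t]
    (hv : LocallyOfFiniteType (G.U.fromSpecResidueField v)) (x : (ptGrpd G v).R) :
    FlatMor.localDim (ptGrpd G v).R x = topologicalKrullDim ↥(G.stabilizerToU.fiber v) := by
  obtain ⟨h₁, h₂⟩ := lft_ptGrpd G v hv
  rw [topologicalKrullDim_stabilizer_fiber, GrpSchField.localDim_grpd (ptGrpd G v) (Iso.refl _) x]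
  exact GrpSchField.topologicalKrullDim_stabilizer (ptGrpd G v) (Iso.refl _)

/-- A space embedded into the loops at `v` has at most the dimension of the stabilizer. -/
theorem topologicalKrullDim_le_of_range_subset [LocallyOfFiniteType G.s] [LocallyOfFiniteType G.t]
    (hv : LocallyOfFiniteType (G.U.fromSpecResidueField v)) {Z : Type u} [TopologicalSpace Z] {φ : Z → G.R}
    (hφ : Topology.IsInducing φ) (hr : ∀ z, φ z ∈ loopSet G v) :
    topologicalKrullDim Z ≤ topologicalKrullDim ↥(G.stabilizerToU.fiber v) := by
  obtain ⟨h₁, h₂⟩ := lft_ptGrpd G v hv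
  rw [topologicalKrullDim_stabilizer_fiber]
  refine le_trans ?_ (GrpSchField.topologicalKrullDim_stabilizer (ptGrpd G v) (Iso.refl _)).le
  choose ψ hψ using fun z => (range_arrInι G v).ge (hr z)
  refine Topology.IsInducing.topologicalKrullDim_le (f := ψ) ?_
  rw [← (isEmbedding_arrInι G v).isInducing.of_comp_iff]
  exact (funext hψ : _ ∘ ψ = φ) ▸ hφ

/-- A space containing the loops at `v` has at least the dimension of the stabilizer there. -/
theorem le_localDim_of_subset_range [LocallyOfFiniteType G.s] [LocallyOfFiniteType G.t]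
    (hv : LocallyOfFiniteType (G.U.fromSpecResidueField v)) {Z : Type u} [TopologicalSpace Z] {φ : Z → G.R}
    (hφ : Topology.IsEmbedding φ) (hr : loopSet G v ⊆ Set.range φ) (z : Z) (hz : φ z = G.e v) :
    topologicalKrullDim ↥(G.stabilizerToU.fiber v) ≤ FlatMor.localDim Z z := by
  let ι := GrpdQuot.arrInι G (G.U.fromSpecResidueField v)
  choose ψ hψ using fun x : (ptGrpd G v).R => hr ((range_arrInι G v).le ⟨x, rfl⟩)
  have hψi : Topology.IsEmbedding ψ := by
    rw [← hφ.of_comp_iff]
    exact (funext hψ : φ ∘ ψ = _) ▸ isEmbedding_arrInι G v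
  have he : G.e v ∈ loopSet G v := by
    constructor
    · rw [← Scheme.Hom.comp_apply, G.e_t]; rfl
    · rw [← Scheme.Hom.comp_apply, G.e_s]; rfl
  obtain ⟨x, hx⟩ := (range_arrInι G v).ge he
  have hxz : ψ x = z := hφ.injective ((hψ x).trans (hx.trans hz.symm))
  rw [← localDim_ptGrpd G v hv x]
  refine le_iInf fun U => ?_
  refine iInf_le_of_le ⟨⟨ψ ⁻¹' (U.1 : Set Z), U.1.2.preimage hψi.continuous⟩,
    (show ψ x ∈ (U.1 : Set Z) from hxz ▸ U.2)⟩ ?_
  exact Topology.IsInducing.topologicalKrullDim_le (f := Set.MapsTo.restrict ψ _ _ (Set.mapsTo_preimage ψ _))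
    (Topology.IsInducing.of_comp ((hψi.continuous.restrict (Set.mapsTo_preimage ψ _))) continuous_subtype_val
      (hψi.isInducing.comp Topology.IsInducing.subtypeVal))

end GrothLib.GrpdSlice13
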