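import Groth.Agent.Lib.GrpdSlice13.Point
import Groth.Agent.Lib.GrpdSlice13.Cut
import Groth.Agent.Lib.RelReg.FibreLift
import Groth.Agent.Lib.Depth.CM

/-!
# Slicing a groupoid at a finite type point

`Cand G v`: an affine subscheme `g : U' ⟶ G.U` through `v` such that `s ∘ pr₁ : U' ×_{g,U,t} R ⟶ U` is
Cohen–Macaulay at the identity over `v`. `Cand.exists_step` lowers the fibre dimension by one while it
exceeds the dimension of the stabilizer; `exists_cand_min` reaches that dimension.
-/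

set_option autoImplicit false
set_option backward.isDefEq.respectTransparency false

universe u

open CategoryTheory CategoryTheory.Limits AlgebraicGeometry IsLocalRing

namespace GrothLib.GrpdSlice13

open GrothLib.CMMor6 (FibQuot)

variable {S : Scheme.{u}} {G : Grpd.GroupoidScheme S} {v : G.U}

/-- The equation of the base change of a principal closed subscheme of an affine scheme. -/
theorem ker_stalkMap_span {Y P P' Y' : Scheme.{u}} [IsAffine Y] {k : Y' ⟶ Y} [IsClosedImmersion k] {f : P ⟶ Y}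
    {m : P' ⟶ P} {f' : P' ⟶ Y'} (sq : IsPullback f' m k f) (a : Γ(Y, ⊤))
    (hk : RingHom.ker (k.app ⊤).hom = Ideal.span {a}) (z : Y') (y : P') (hx : f (m y) = k z) :
    RingHom.ker (m.stalkMap y).hom = Ideal.span {(f.appTop ≫ P.presheaf.germ ⊤ (m y) trivial).hom a} := by
  have hci : IsClosedImmersion (k ∣_ (⊤ : Y.Opens)) := IsZariskiLocalAtTarget.restrict ‹_› _
  have hz : k z ∈ (⊤ : Y.Opens) := TopologicalSpace.Opens.mem_top _
  rw [RelReg.ker_stalkMap_of_isPullback sq ⟨⊤, isAffineOpen_top _⟩ hci z hz y hx,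
    RelReg.ker_stalkMap_eq_map k (isAffineOpen_top _) hci z hz, hk, Ideal.map_map,
    Ideal.map_span, Set.image_singleton, ← CommRingCat.hom_comp]
  congr 4
  rw [TopCat.Presheaf.stalkCongr_hom, ← Category.assoc, TopCat.Presheaf.germ_stalkSpecializes,
    Scheme.Hom.germ_stalkMap]
  rfl

/-- The point `p` of `U' ×_{g,U,t} R` is a good slice at `v`. -/
structure Cand (G : Grpd.GroupoidScheme S) (v : G.U) where
  U' : Scheme.{u}
  g : U' ⟶ G.U
  u' : U'
  p : ↑(pullback g G.t)
  aff : IsAffine U'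
  imm : IsImmersion g
  lfp : LocallyOfFinitePresentation g
  hu : g u' = v
  hp₁ : pullback.fst g G.t p = u'
  hp₂ : pullback.snd g G.t p = G.e v
  cm : MoreMor.IsCMAt (pullback.snd g G.t ≫ G.s) p

attribute [instance] Cand.aff Cand.imm Cand.lfp

namespace Cand

variable (C : Cand G v)

/-- The morphism `s ∘ pr₁`. -/
noncomputable abbrev h : pullback C.g G.t ⟶ G.U := pullback.snd C.g G.t ≫ G.s

theorem h_p : C.h C.p = v := by
  rw [Scheme.Hom.comp_apply, C.hp₂, ← Scheme.Hom.comp_apply, G.e_s]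
  rfl

instance isImmersion_snd : IsImmersion (pullback.snd C.g G.t) := MorphismProperty.pullback_snd _ _ C.imm

instance lfp_h [LocallyOfFinitePresentation G.s] : LocallyOfFinitePresentation C.h := by
  haveI : LocallyOfFinitePresentation (pullback.snd C.g G.t) := MorphismProperty.pullback_snd _ _ C.lfp
  exact MorphismProperty.comp_mem _ _ _ this inferInstance

theorem isEmbedding_fiber (y : G.U) :
    Topology.IsEmbedding (C.h.fiberι y ≫ pullback.snd C.g G.t : C.h.fiber y ⟶ G.R) :=
  (pullback.snd C.g G.t).isEmbedding.comp (C.h.fiberι y).isEmbedding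

theorem exists_fiber_point : ∃ w : C.h.fiber v, C.h.fiberι v w = C.p ∧
    FlatMor.fibreDimAt C.h C.p = FlatMor.localDim (C.h.fiber v) w := by
  have key : ∀ y, C.h C.p = y → ∃ w : C.h.fiber y, C.h.fiberι y w = C.p ∧
      FlatMor.fibreDimAt C.h C.p = FlatMor.localDim (C.h.fiber y) w := by
    rintro _ rfl
    exact ⟨C.h.asFiber C.p, C.h.fiberι_asFiber C.p, rfl⟩
  exact key v C.h_p

theorem isClosed_p [LocallyOfFiniteType G.s] {y : G.U} (w : C.h.fiber y) (hw : C.h.fiberι y w = C.p) :
    IsClosed ({w} : Set (C.h.fiber y)) := by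
  have hy : y = v := by
    rw [← C.h_p, ← hw]
    exact ((C.h.range_fiberι y).le ⟨w, rfl⟩).symm
  subst hy
  let π : C.h.fiber y ⟶ G.s.fiber y := pullback.lift (C.h.fiberι y ≫ pullback.snd C.g G.t)
    (C.h.fiberToSpecResidueField y) ((Category.assoc _ _ _).trans pullback.condition)
  have hπ : π ≫ G.s.fiberι y = C.h.fiberι y ≫ pullback.snd C.g G.t := pullback.lift_fst _ _ _
  have hr : G.s.fiberι y (π w) = G.e y := by
    rw [← Scheme.Hom.comp_apply, hπ, Scheme.Hom.comp_apply, hw, C.hp₂]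
  have hc := (isClosed_asFiber_of_section G.s G.e G.e_s y (π w) hr).preimage π.continuous
  convert hc using 1
  symm
  refine Set.eq_singleton_iff_unique_mem.2 ⟨rfl, fun z hz => (C.isEmbedding_fiber y).injective ?_⟩
  rw [← hπ, Scheme.Hom.comp_apply, Scheme.Hom.comp_apply, (hz : π z = π w)]

theorem fibreDimAt_eq [LocallyOfFiniteType G.s] :
    FlatMor.fibreDimAt C.h C.p = ringKrullDim (FibQuot C.h C.p) :=
  fibreDimAt_eq_of_closed C.h C.p (C.isClosed_p _ (C.h.fiberι_asFiber C.p))

theorem stab_le [LocallyOfFiniteType G.s] [LocallyOfFiniteType G.t]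
    (hv : LocallyOfFiniteType (G.U.fromSpecResidueField v)) :
    topologicalKrullDim ↥(G.stabilizerToU.fiber v) ≤ FlatMor.fibreDimAt C.h C.p := by
  obtain ⟨w, hw, hd⟩ := C.exists_fiber_point
  rw [hd]
  refine le_localDim_of_subset_range G v hv (C.isEmbedding_fiber v) ?_ w ?_
  · rintro r ⟨ht, hs⟩
    obtain ⟨z, -, hz⟩ := Scheme.Pullback.exists_preimage_pullback (f := C.g) (g := G.t) C.u' r (C.hu.trans ht.symm)
    obtain ⟨z', hz'⟩ : z ∈ Set.range (C.h.fiberι v) := by
      rw [C.h.range_fiberι]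
      show C.h z = v
      rw [Scheme.Hom.comp_apply, hz, hs]
    exact ⟨z', by rw [Scheme.Hom.comp_apply, hz', hz]⟩
  · rw [Scheme.Hom.comp_apply, hw, C.hp₂]

/-- A function on `U'` on the local ring of the fibre. -/
noncomputable def toFib (z : ↑(pullback C.g G.t)) : Γ(C.U', ⊤) →+* FibQuot C.h z :=
  (Ideal.Quotient.mk _).comp ((pullback.fst C.g G.t).appTop ≫
    (pullback C.g G.t).presheaf.germ ⊤ z trivial).hom

theorem exists_regular [LocallyOfFiniteType G.s] [LocallyOfFiniteType G.t]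
    [LocallyOfFinitePresentation G.s]
    (hv : LocallyOfFiniteType (G.U.fromSpecResidueField v))
    (hd : topologicalKrullDim ↥(G.stabilizerToU.fiber v) < FlatMor.fibreDimAt C.h C.p) :
    ∃ a : Γ(C.U', ⊤), a ∈ (C.U'.toSpecΓ C.u').asIdeal ∧ C.toFib C.p a ∈ nonZeroDivisors (FibQuot C.h C.p) := by
  obtain ⟨-, hcm⟩ := (CMMor6.isCMAt_iff C.h C.p).1 C.cm
  haveI := CMMor6.isLocallyNoetherian_fiber C.h (C.h C.p)
  haveI : IsNoetherianRing (FibQuot C.h C.p) := CMMor6.isNoetherianRing_fibQuot C.h C.p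
  haveI : IsLocalRing (FibQuot C.h C.p) := hcm.toIsLocalRing
  let P := pullback C.g G.t
  let O := FibQuot C.h C.p
  let π : P.presheaf.stalk C.p →+* O := Ideal.Quotient.mk _
  let π' : P.presheaf.stalk C.p ⟶ CommRingCat.of O := CommRingCat.ofHom π
  haveI : IsClosedImmersion (Spec.map π') := IsClosedImmersion.spec_of_surjective _ Ideal.Quotient.mk_surjective
  have hΓ : Spec.map π' ≫ P.fromSpecStalk C.p ≫ pullback.fst C.g G.t ≫ C.U'.toSpecΓ =
      Spec.map (CommRingCat.ofHom (C.toFib C.p)) := by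
    rw [Scheme.toSpecΓ_naturality, ← Category.assoc (P.fromSpecStalk C.p), Scheme.fromSpecStalk_toSpecΓ,
      ← Spec.map_comp, ← Spec.map_comp]
    rfl
  let c : Spec (CommRingCat.of O) := closedPoint O
  have hclosed : (P.fromSpecStalk C.p) (Spec.map π' c) = C.p := by
    rw [show Spec.map π' c = closedPoint (P.presheaf.stalk C.p) from
      PrimeSpectrum.ext (((local_hom_TFAE π).out 0 4 rfl rfl).1 (IsLocalHom.of_surjective π Ideal.Quotient.mk_surjective))]
    exact Scheme.fromSpecStalk_closedPoint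
  have hu' : (C.U'.toSpecΓ C.u').asIdeal = (maximalIdeal O).comap (C.toFib C.p) := by
    have := congrArg (fun k : Spec (CommRingCat.of O) ⟶ Spec Γ(C.U', ⊤) => (k c).asIdeal) hΓ
    simp only [Scheme.Hom.comp_apply] at this
    rw [hclosed, C.hp₁] at this
    exact this
  by_contra hc
  push Not at hc
  -- avoid the associated primes
  have hsub : ∀ a ∈ (C.U'.toSpecΓ C.u').asIdeal, ∃ q ∈ associatedPrimes O O, C.toFib C.p a ∈ q := by
    intro a ha
    have h1 := hc a ha
    have : C.toFib C.p a ∈ ⋃ q ∈ associatedPrimes O O, (q : Set O) := by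
      rw [biUnion_associatedPrimes_eq_zero_divisors]
      rw [mem_nonZeroDivisors_iff_right] at h1
      push Not at h1
      obtain ⟨x, hx, hx0⟩ := h1
      exact ⟨x, hx0, by rw [smul_eq_mul, mul_comm]; exact hx⟩
    obtain ⟨q, hq, haq⟩ := Set.mem_iUnion₂.1 this
    exact ⟨q, hq, haq⟩
  obtain ⟨q, hq, hle⟩ : ∃ q ∈ associatedPrimes O O, (C.U'.toSpecΓ C.u').asIdeal ≤ q.comap (C.toFib C.p) := by
    by_contra hn
    push Not at hn
    obtain ⟨a, ha, han⟩ := LC.exists_mem_forall_notMem ((associatedPrimes.finite O O).image (Ideal.comap (C.toFib C.p)))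
      (by rintro _ ⟨q, hq, rfl⟩; haveI := hq.isPrime; infer_instance)
      (I := (C.U'.toSpecΓ C.u').asIdeal) (by rintro _ ⟨q, hq, rfl⟩; exact hn q hq)
    obtain ⟨q, hq, haq⟩ := hsub a ha
    exact han _ ⟨q, hq, rfl⟩ haq
  haveI := hq.isPrime
  -- the component `V(q)` consists of loops
  let ρ : CommRingCat.of O ⟶ CommRingCat.of (O ⧸ q) := CommRingCat.ofHom (Ideal.Quotient.mk q)
  haveI : IsClosedImmersion (Spec.map ρ) := IsClosedImmersion.spec_of_surjective _ Ideal.Quotient.mk_surjective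
  let φ : Spec (CommRingCat.of (O ⧸ q)) ⟶ G.R :=
    Spec.map ρ ≫ Spec.map π' ≫ P.fromSpecStalk C.p ≫ pullback.snd C.g G.t
  have hφ : Topology.IsInducing φ := φ.isEmbedding.isInducing
  have hle2 : ringKrullDim O ≤ topologicalKrullDim (Spec (CommRingCat.of (O ⧸ q))) := by
    rw [(CMMor6.cm_iff O).1 hcm]
    refine (GrothLib.Depth.depth_le_dim_quotient hq).trans ?_
    exact (PrimeSpectrum.topologicalKrullDim_eq_ringKrullDim (O ⧸ q)).ge
  have hloop : ∀ z, φ z ∈ loopSet G v := by
    intro z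
    let Q : Spec (CommRingCat.of O) := Spec.map ρ z
    have hqQ : q ≤ Q.asIdeal := fun x hx => by
      show Ideal.Quotient.mk q x ∈ z.asIdeal
      rw [Ideal.Quotient.eq_zero_iff_mem.2 hx]; exact zero_mem _
    let y := P.fromSpecStalk C.p (Spec.map π' Q)
    have hφy : φ z = pullback.snd C.g G.t y := rfl
    have hfst : pullback.fst C.g G.t y = C.u' := by
      have e1 := congrArg (fun k : Spec (CommRingCat.of O) ⟶ Spec Γ(C.U', ⊤) => (k Q).asIdeal) hΓ
      simp only [Scheme.Hom.comp_apply] at e1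
      refine C.U'.toSpecΓ.isEmbedding.injective (PrimeSpectrum.ext ?_)
      rw [e1]
      refine le_antisymm ?_ (hle.trans (Ideal.comap_mono hqQ))
      rw [hu']
      exact Ideal.comap_mono (le_maximalIdeal Q.2.ne_top)
    constructor
    · rw [hφy, ← Scheme.Hom.comp_apply, ← pullback.condition, Scheme.Hom.comp_apply, hfst, C.hu]
    · rw [hφy, ← Scheme.Hom.comp_apply]
      show C.h y = v
      refine Eq.trans ?_ C.h_p
      have e1 : Spec.map (C.h.stalkMap C.p) (Spec.map π' Q) = closedPoint (G.U.presheaf.stalk (C.h C.p)) := by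
        refine PrimeSpectrum.ext (le_antisymm (le_maximalIdeal (Spec.map (C.h.stalkMap C.p) (Spec.map π' Q)).2.ne_top) fun r hr => ?_)
        show π ((C.h.stalkMap C.p).hom r) ∈ Q.asIdeal
        have h0 : π ((C.h.stalkMap C.p).hom r) = 0 := Ideal.Quotient.eq_zero_iff_mem.2 (Ideal.mem_map_of_mem _ hr)
        rw [h0]
        exact Ideal.zero_mem _
      calc C.h y = G.U.fromSpecStalk (C.h C.p) (Spec.map (C.h.stalkMap C.p) (Spec.map π' Q)) := by
            rw [← Scheme.Hom.comp_apply (f := Spec.map (C.h.stalkMap C.p)),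
              Scheme.SpecMap_stalkMap_fromSpecStalk, Scheme.Hom.comp_apply]
            rfl
        _ = C.h C.p := by rw [e1, Scheme.fromSpecStalk_closedPoint]
  have := hle2.trans (topologicalKrullDim_le_of_range_subset G v hv hφ hloop)
  rw [← C.fibreDimAt_eq] at this
  exact absurd this (not_le.2 hd)

/-- Cutting once. -/
theorem exists_step [LocallyOfFiniteType G.s] [LocallyOfFiniteType G.t] [LocallyOfFinitePresentation G.s]
    (hv : LocallyOfFiniteType (G.U.fromSpecResidueField v))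
    (hd : topologicalKrullDim ↥(G.stabilizerToU.fiber v) < FlatMor.fibreDimAt C.h C.p) :
    ∃ C' : Cand G v, FlatMor.fibreDimAt C'.h C'.p + 1 = FlatMor.fibreDimAt C.h C.p := by
  obtain ⟨a, ha, hreg⟩ := C.exists_regular hv hd
  let A := Γ(C.U', ⊤)
  let ρ : A ⟶ CommRingCat.of (A ⧸ Ideal.span {a}) := CommRingCat.ofHom (Ideal.Quotient.mk _)
  haveI : IsClosedImmersion (Spec.map ρ) := IsClosedImmersion.spec_of_surjective _ Ideal.Quotient.mk_surjective
  haveI : LocallyOfFinitePresentation (Spec.map ρ) := by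
    refine (HasRingHomProperty.Spec_iff (P := @LocallyOfFinitePresentation)).2 ?_
    refine RingHom.FinitePresentation.of_surjective _ Ideal.Quotient.mk_surjective ?_
    rw [CommRingCat.hom_ofHom, Ideal.mk_ker]
    exact Submodule.fg_span_singleton _
  let k := Spec.map ρ ≫ C.U'.isoSpec.inv
  haveI : IsClosedImmersion k := MorphismProperty.comp_mem @IsClosedImmersion _ _ ‹_› inferInstance
  haveI : LocallyOfFinitePresentation k := inferInstance
  obtain ⟨u'', hu''⟩ : ∃ z, k z = C.u' := by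
    obtain ⟨z, hz⟩ : C.U'.toSpecΓ C.u' ∈ Set.range (PrimeSpectrum.comap (Ideal.Quotient.mk (Ideal.span {a}))) := by
      rw [range_comap_of_surjective _ _ Ideal.Quotient.mk_surjective, Ideal.mk_ker, PrimeSpectrum.zeroLocus_span]
      exact Set.singleton_subset_iff.2 ha
    refine ⟨z, ?_⟩
    show C.U'.isoSpec.inv (Spec.map ρ z) = C.u'
    rw [show Spec.map ρ z = C.U'.isoSpec.hom C.u' from hz, ← Scheme.Hom.comp_apply, Iso.hom_inv_id]
    rfl
  let m : pullback (k ≫ C.g) G.t ⟶ pullback C.g G.t :=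
    pullback.lift (pullback.fst (k ≫ C.g) G.t ≫ k) (pullback.snd (k ≫ C.g) G.t)
      ((Category.assoc _ _ _).trans pullback.condition)
  have hm₁ : m ≫ pullback.fst C.g G.t = pullback.fst (k ≫ C.g) G.t ≫ k := pullback.lift_fst _ _ _
  have hm₂ : m ≫ pullback.snd C.g G.t = pullback.snd (k ≫ C.g) G.t := pullback.lift_snd _ _ _
  have sq : IsPullback m (pullback.fst (k ≫ C.g) G.t) (pullback.fst C.g G.t) k :=
    IsPullback.of_right (by rw [hm₂]; exact (IsPullback.of_hasPullback (k ≫ C.g) G.t).flip) hm₁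
      (IsPullback.of_hasPullback C.g G.t).flip
  haveI : IsClosedImmersion m := MorphismProperty.of_isPullback (P := @IsClosedImmersion) sq.flip ‹_›
  obtain ⟨p', hp'₁, hp'₂⟩ := Scheme.Pullback.exists_preimage_pullback (f := k ≫ C.g) (g := G.t) u'' (G.e v)
    (by rw [Scheme.Hom.comp_apply, hu'', C.hu, ← Scheme.Hom.comp_apply, G.e_t]; rfl)
  have hmp : m p' = C.p := by
    apply (pullback.snd C.g G.t).isEmbedding.injective
    rw [← Scheme.Hom.comp_apply, hm₂, hp'₂, C.hp₂]
  -- the equation of `m`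
  have hker : RingHom.ker (m.stalkMap p').hom =
      Ideal.span {((pullback.fst C.g G.t).appTop ≫ (pullback C.g G.t).presheaf.germ ⊤ (m p') trivial).hom a} := by
    have hx : pullback.fst C.g G.t (m p') = k u'' := by
      rw [← Scheme.Hom.comp_apply, hm₁, Scheme.Hom.comp_apply, hp'₁]
    have hk : RingHom.ker (k.app ⊤).hom = Ideal.span {a} := by
      have e : k.appTop = ρ ≫ (Scheme.ΓSpecIso _).inv := by
        have e0 : C.U'.isoSpec.inv.appTop = (Scheme.ΓSpecIso A).inv := by
          rw [← cancel_mono (Scheme.ΓSpecIso A).hom, Iso.inv_hom_id]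
          have : (C.U'.isoSpec.hom ≫ C.U'.isoSpec.inv).appTop = 𝟙 _ := by
            rw [Iso.hom_inv_id]; rfl
          rw [Scheme.Hom.comp_appTop] at this
          refine Eq.trans (congrArg (C.U'.isoSpec.inv.appTop ≫ ·) ?_) this
          exact (Scheme.toSpecΓ_appTop C.U').symm
        simp only [k, Scheme.Hom.comp_appTop, e0]
        exact (Scheme.ΓSpecIso_inv_naturality ρ).symm
      show RingHom.ker k.appTop.hom = _
      rw [e, CommRingCat.hom_comp, RingHom.ker_comp_of_injective _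
        (ConcreteCategory.bijective_of_isIso (Scheme.ΓSpecIso (CommRingCat.of (A ⧸ Ideal.span {a}))).inv).injective]
      exact Ideal.mk_ker
    exact ker_stalkMap_span sq.flip a hk u'' p' hx
  have hcm : MoreMor.IsCMAt C.h (m p') := hmp ▸ C.cm
  have hf : Ideal.Quotient.mk _ (((pullback.fst C.g G.t).appTop ≫
      (pullback C.g G.t).presheaf.germ ⊤ (m p') trivial).hom a) ∈ nonZeroDivisors (FibQuot C.h (m p')) :=
    (congrArg (fun z => C.toFib z a ∈ nonZeroDivisors (FibQuot C.h z)) hmp).mpr hreg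
  obtain ⟨hcm', hdim⟩ := cut_at m C.h p' hcm _ hker hf
  have hcomp : m ≫ C.h = pullback.snd (k ≫ C.g) G.t ≫ G.s := by
    rw [← Category.assoc, hm₂]
  rw [hcomp] at hcm' hdim
  let C' : Cand G v :=
    { U' := _, g := k ≫ C.g, u' := u'', p := p', aff := inferInstance, imm := inferInstance
      lfp := inferInstance, hu := by rw [Scheme.Hom.comp_apply, hu'', C.hu]
      hp₁ := hp'₁, hp₂ := hp'₂, cm := hcm' }
  refine ⟨C', ?_⟩
  rw [C'.fibreDimAt_eq, C.fibreDimAt_eq]
  exact hdim.trans (congrArg (fun z => ringKrullDim (FibQuot C.h z)) hmp)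

theorem exists_nat_dim [LocallyOfFiniteType G.s] [LocallyOfFinitePresentation G.s] :
    ∃ n : ℕ, FlatMor.fibreDimAt C.h C.p = n := by
  haveI := CMMor6.isLocallyNoetherian_fiber C.h (C.h C.p)
  haveI : IsNoetherianRing (FibQuot C.h C.p) := CMMor6.isNoetherianRing_fibQuot C.h C.p
  haveI : IsLocalRing (FibQuot C.h C.p) := ((CMMor6.isCMAt_iff C.h C.p).1 C.cm).2.toIsLocalRing
  obtain ⟨D, hD⟩ := WithBot.ne_bot_iff_exists.1 (ringKrullDim_ne_bot (R := FibQuot C.h C.p))
  have : D ≠ ⊤ := fun e => ringKrullDim_ne_top (R := FibQuot C.h C.p) (by rw [← hD, e]; rfl)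
  lift D to ℕ using this
  exact ⟨D, C.fibreDimAt_eq.trans hD.symm⟩

end Cand

/-- A slice through `v` which is an open subscheme. -/
theorem exists_cand [LocallyOfFinitePresentation G.s] [LocallyOfFinitePresentation G.t]
    (hs : ∀ r : G.R, Grpd.IsCMAt G.s r) (v : G.U) :
    ∃ C : Cand G v, FlatMor.fibreDimAt C.h C.p = FlatMor.fibreDimAt G.s (G.e v) := by
  obtain ⟨_, ⟨W₀, hW, rfl⟩, hvW, -⟩ := G.U.isBasis_affineOpens.exists_subset_of_mem_open (Set.mem_univ v) isOpen_univ
  let W : G.U.Opens := W₀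
  haveI : IsAffine (W : Scheme.{u}) := hW
  haveI : IsOpenImmersion (pullback.snd W.ι G.t) := MorphismProperty.pullback_snd _ _ inferInstance
  obtain ⟨p, hp₁, hp₂⟩ := Scheme.Pullback.exists_preimage_pullback (f := W.ι) (g := G.t) (⟨v, hvW⟩ : W) (G.e v)
    (by rw [← Scheme.Hom.comp_apply G.e, G.e_t]; rfl)
  have hcm : MoreMor.IsCMAt (pullback.snd W.ι G.t ≫ G.s) p :=
    (CMMor6.isCMAt_openImmersion_comp_iff _ G.s p).2 ((grpd_iff _ _).1 (hs _))
  refine ⟨{ U' := _, g := W.ι, u' := ⟨v, hvW⟩, p := p, aff := hW, imm := inferInstance, lfp := inferInstance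
            hu := rfl, hp₁ := hp₁, hp₂ := hp₂, cm := hcm }, ?_⟩
  show FlatMor.fibreDimAt (pullback.snd W.ι G.t ≫ G.s) p = _
  rw [CMMor6.fibreDimAt_comp_flat_lqf, hp₂]

theorem exists_cand_min [LocallyOfFinitePresentation G.s] [LocallyOfFinitePresentation G.t]
    (hs : ∀ r : G.R, Grpd.IsCMAt G.s r) (hv : LocallyOfFiniteType (G.U.fromSpecResidueField v)) :
    ∃ C : Cand G v, FlatMor.fibreDimAt C.h C.p = topologicalKrullDim ↥(G.stabilizerToU.fiber v) := by
  have key : ∀ n : ℕ, ∀ C : Cand G v, FlatMor.fibreDimAt C.h C.p = n →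
      ∃ C : Cand G v, FlatMor.fibreDimAt C.h C.p = topologicalKrullDim ↥(G.stabilizerToU.fiber v) := by
    intro n
    induction n using Nat.strong_induction_on with
    | _ n ih =>
      intro C hC
      rcases (C.stab_le hv).lt_or_eq with hlt | heq
      · obtain ⟨C', hC'⟩ := C.exists_step hv hlt
        obtain ⟨m, hm⟩ := C'.exists_nat_dim
        rw [hm, hC] at hC'
        refine ih m ?_ C' hm
        have : m + 1 = n := by exact_mod_cast hC'
        omega
      · exact ⟨C, heq.symm⟩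
  obtain ⟨C, -⟩ := exists_cand (G := G) hs v
  obtain ⟨n, hn⟩ := C.exists_nat_dim
  exact key n C hn

end GrothLib.GrpdSlice13
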